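import Groth.Prelude.Def_W4c5grrsingularflatDSeq
import Groth.Agent.LC.ExtDim
import Groth.Agent.LC.GorLoc
import Mathlib.RingTheory.Ideal.KrullsHeightTheorem
import Mathlib.RingTheory.RegularLocalRing.Defs
import Mathlib.RingTheory.Ideal.Colon

/-!
# d-sequences generating a prime of a Cohen–Macaulay local ring
-/

noncomputable section

set_option autoImplicit false
set_option linter.style.haveILetI false

universe u

open IsLocalRing RingTheory.Sequence

namespace Groth.Agent.H9DSeq

/-- Exchange: an element outside `(ts) + m I` replaces one of the remaining generators. -/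
theorem exchange {R : Type u} [CommRing R] [IsLocalRing R] [DecidableEq R] (T : Ideal R) (s : Finset R) (x : R)
    (I : Ideal R) (hI : I = T ⊔ Ideal.span (↑s : Set R)) (hx : x ∈ I) (hx' : x ∉ T ⊔ maximalIdeal R * I) :
    ∃ j ∈ s, I = T ⊔ Ideal.span {x} ⊔ Ideal.span (↑(s.erase j) : Set R) := by
  rw [hI, Submodule.mem_sup] at hx
  obtain ⟨a, ha, b, hb, rfl⟩ := hx
  obtain ⟨c, hc⟩ := Submodule.mem_span_finset'.1 hb
  obtain ⟨j, hj⟩ : ∃ j : ↥s, IsUnit (c j) := by
    by_contra hne
    push Not at hne
    refine hx' (add_mem (Submodule.mem_sup_left ha) (Submodule.mem_sup_right ?_))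
    rw [← hc]
    refine Ideal.sum_mem _ fun j _ => ?_
    rw [smul_eq_mul]
    exact Ideal.mul_mem_mul ((mem_maximalIdeal _).2 (hne j)) (hI ▸ Submodule.mem_sup_right (Ideal.subset_span j.2))
  refine ⟨j, j.2, ?_⟩
  have hrest : ∀ i : ↥s, i ≠ j → c i • (i : R) ∈ Ideal.span (↑(s.erase (j : R)) : Set R) := fun i hi =>
    Ideal.mul_mem_left _ _ (Ideal.subset_span (Finset.mem_coe.2
      (Finset.mem_erase.2 ⟨fun e => hi (Subtype.ext e), i.2⟩)))
  refine le_antisymm ?_ (sup_le (sup_le (hI ▸ le_sup_left) ?_) ?_)
  · rw [hI]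
    refine sup_le (le_sup_left.trans le_sup_left) (Ideal.span_le.2 fun i hi => ?_)
    by_cases hij : i = (j : R)
    · subst hij
      obtain ⟨u, hu⟩ := hj
      have hsum := Finset.add_sum_erase Finset.univ (fun i : ↥s => c i • (i : R)) (Finset.mem_univ j)
      rw [hc] at hsum
      have e : (j : R) = (↑u⁻¹ : R) * ((a + b) - a - ∑ i ∈ Finset.univ.erase j, c i • (i : R)) := by
        rw [add_sub_cancel_left, ← hsum, add_sub_cancel_right, smul_eq_mul, ← hu, ← mul_assoc,
          Units.inv_mul, one_mul]
      suffices hmem : (↑u⁻¹ : R) * ((a + b) - a - ∑ i ∈ Finset.univ.erase j, c i • (i : R)) ∈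
          T ⊔ Ideal.span {a + b} ⊔ Ideal.span (↑(s.erase (j : R)) : Set R) by
        rw [SetLike.mem_coe]
        exact (congrArg (· ∈ T ⊔ Ideal.span {a + b} ⊔ Ideal.span (↑(s.erase (j : R)) : Set R)) e).mpr hmem
      refine Ideal.mul_mem_left _ _ (sub_mem (sub_mem ?_ ?_) (Ideal.sum_mem _ fun i hi' => ?_))
      · exact Submodule.mem_sup_left (Submodule.mem_sup_right (Ideal.mem_span_singleton_self _))
      · exact Submodule.mem_sup_left (Submodule.mem_sup_left ha)
      · exact Submodule.mem_sup_right (hrest i (Finset.ne_of_mem_erase hi'))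
    · exact Submodule.mem_sup_right (Ideal.subset_span (Finset.mem_coe.2 (Finset.mem_erase.2 ⟨hij, hi⟩)))
  · rw [hI, Ideal.span_le, Set.singleton_subset_iff]
    exact Submodule.add_mem_sup ha hb
  · rw [hI]
    exact (Ideal.span_mono (Finset.coe_subset.2 (Finset.erase_subset _ _))).trans le_sup_right

variable {T : Type u} [CommRing T] [LocCoh.IsCohenMacaulayLocalRing T]

/-- Unmixedness for ideals generated by regular sequences. -/
theorem height_eq_of_ass (ts : List T) (h : IsWeaklyRegular T ts) (hm : ∀ r ∈ ts, r ∈ maximalIdeal T)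
    {P : Ideal T} (hP : P ∈ associatedPrimes T (T ⧸ Ideal.ofList ts)) :
    P.height = (ts.length : ℕ∞) := by
  haveI := hP.isPrime
  let M := T ⧸ (Ideal.ofList ts • ⊤ : Submodule T T)
  have hCM : LocCoh.IsCohenMacaulayModule T M :=
    LC.isCM_quot_ofList T LocCoh.IsCohenMacaulayLocalRing.supportDim_eq_depth h hm
  have heq : (Ideal.ofList ts • ⊤ : Submodule T T) = Ideal.ofList ts := by rw [smul_eq_mul, Ideal.mul_top]
  have hP' : P ∈ associatedPrimes T M := by
    rw [LinearEquiv.AssociatedPrimes.eq (Submodule.quotEquivOfEq _ _ heq)]; exact hP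
  have h1 := LC.coheight_eq_of_ass_of_isCM M hCM (p := ⟨P, inferInstance⟩) hP'
  haveI : Nontrivial M := LC.nontrivial_of_isCM M hCM
  have h2 := Module.supportDim_add_length_eq_supportDim_of_isRegular ts
    (IsRegular.of_isWeaklyRegular_of_mem_maximalIdeal T hm h)
  have h3 := LC.height_add_ringKrullDim_quotient P (Ideal.IsPrime.ne_top inferInstance)
  have h4 : ringKrullDim (T ⧸ P) = (Order.coheight (⟨P, inferInstance⟩ : PrimeSpectrum T) : WithBot ℕ∞) := by
    rw [ringKrullDim_quotient, Order.coheight_eq_krullDim_Ici]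
    exact Order.krullDim_eq_of_orderIso (OrderIso.setCongr _ _ (by ext x; exact Iff.rfl))
  rw [← h1, Module.supportDim_self_eq_ringKrullDim, ← h3, h4] at h2
  obtain ⟨D, hD⟩ := ENat.ne_top_iff_exists.1 (show Order.coheight (⟨P, inferInstance⟩ : PrimeSpectrum T) ≠ ⊤ by
    intro e
    have h5 : ringKrullDim (T ⧸ P) < ⊤ := (ringKrullDim_quotient_le P).trans_lt ringKrullDim_lt_top
    rw [h4, e] at h5
    exact lt_irrefl _ h5)
  obtain ⟨H, hH⟩ := ENat.ne_top_iff_exists.1 (Ideal.height_ne_top (I := P) (Ideal.IsPrime.ne_top inferInstance))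
  rw [← hD, ← hH] at h2
  rw [← hH]
  have : D + ts.length = D + H := by exact_mod_cast h2
  exact_mod_cast (by omega : H = ts.length)

theorem height_le_length {R : Type u} [CommRing R] [IsNoetherianRing R] (I : Ideal R) (hI : I ≠ ⊤) (l : List R)
    (h : I = Ideal.ofList l) : I.height ≤ (l.length : ℕ∞) := by
  classical
  refine (Ideal.height_le_spanFinrank I hI).trans (Nat.cast_le.2 ?_)
  have h1 := Submodule.spanFinrank_span_le_ncard_of_finite (R := R) (s := (↑l.toFinset : Set R)) (Finset.finite_toSet _)
  rw [show Submodule.span R (↑l.toFinset : Set R) = I by rw [h, List.coe_toFinset], Set.ncard_coe_finset] at h1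
  exact h1.trans (List.toFinset_card_le l)

variable (p : Ideal T) [p.IsPrime] [IsRegularLocalRing (Localization.AtPrime p)]

theorem exists_seq (h : ℕ) (hh : p.height = h) : ∀ i, i ≤ h →
    ∃ ts : List T, ts.length = i ∧ (∀ r ∈ ts, r ∈ p) ∧ IsWeaklyRegular T ts ∧
      (∃ s : Finset T, s.card + i ≤ Submodule.spanFinrank p ∧ p = Ideal.ofList ts ⊔ Ideal.span (↑s : Set T)) ∧
      ∃ s : Finset (Localization.AtPrime p), s.card + i ≤ h ∧ maximalIdeal (Localization.AtPrime p) =
        (Ideal.ofList ts).map (algebraMap T (Localization.AtPrime p)) ⊔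
          Ideal.span (↑s : Set (Localization.AtPrime p)) := by
  classical
  let L := Localization.AtPrime p
  have hLdim : ringKrullDim L = h := by
    rw [IsLocalization.AtPrime.ringKrullDim_eq_height p, hh]; rfl
  intro i
  induction i with
  | zero =>
    intro _
    refine ⟨[], rfl, by simp, IsWeaklyRegular.nil T T, ⟨(Submodule.FG.finite_generators
      (IsNoetherian.noetherian p)).toFinset, ?_, ?_⟩, ?_⟩
    · rw [add_zero, ← Set.ncard_eq_toFinset_card _ _, Submodule.FG.generators_ncard (IsNoetherian.noetherian p)]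
    · rw [Ideal.ofList_nil, bot_sup_eq, Set.Finite.coe_toFinset]
      exact (Submodule.span_generators p).symm
    · have hfg := IsNoetherian.noetherian (maximalIdeal L)
      refine ⟨(Submodule.FG.finite_generators hfg).toFinset, ?_, ?_⟩
      · rw [add_zero, ← Set.ncard_eq_toFinset_card _ _, Submodule.FG.generators_ncard hfg]
        have := IsRegularLocalRing.spanFinrank_maximalIdeal (R := L)
        rw [hLdim] at this
        exact le_of_eq (by exact_mod_cast this)
      · rw [Ideal.ofList_nil, Ideal.map_bot, bot_sup_eq, Set.Finite.coe_toFinset]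
        exact (Submodule.span_generators _).symm
  | succ i IH =>
    intro hi
    obtain ⟨ts, hlen, htp, hreg, ⟨s, hs, hps⟩, ⟨s₁, hs₁, hps₁⟩⟩ := IH (by omega)
    have htm : ∀ r ∈ ts, r ∈ maximalIdeal T := fun r hr => le_maximalIdeal (Ideal.IsPrime.ne_top inferInstance) (htp r hr)
    let A : Ideal T := Ideal.ofList ts ⊔ maximalIdeal T * p
    let B : Ideal T := ((Ideal.ofList ts).map (algebraMap T L) ⊔ maximalIdeal L * maximalIdeal L).comap (algebraMap T L)
    have hnp : ¬ (p : Set T) ⊆ ⋃ k ∈ (insert A (insert B (associatedPrimes T (T ⧸ Ideal.ofList ts)))), (k : Set T) := by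
      intro hsub
      have hfin : (insert A (insert B (associatedPrimes T (T ⧸ Ideal.ofList ts)))).Finite :=
        ((associatedPrimes.finite T (T ⧸ Ideal.ofList ts)).insert B).insert A
      obtain ⟨k, hk, hpk⟩ := (Ideal.subset_union_prime_finite (f := fun k : Ideal T => k) hfin A B
        (fun k hk h1 h2 => by
          rcases hk with rfl | rfl | hk
          · exact absurd rfl h1
          · exact absurd rfl h2
          · exact hk.isPrime)).1 hsub
      rcases hk with rfl | rfl | hk
      · have hle : p ≤ Ideal.ofList ts := Submodule.le_of_le_smul_of_le_jacobson_bot (I := maximalIdeal T)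
          (IsNoetherian.noetherian p) (maximalIdeal_le_jacobson _) hpk
        have := height_le_length p (Ideal.IsPrime.ne_top inferInstance) ts
          (le_antisymm hle (Ideal.span_le.2 htp))
        rw [hh, hlen] at this
        have : h ≤ i := by exact_mod_cast this
        omega
      · have hle : maximalIdeal L ≤ (Ideal.ofList ts).map (algebraMap T L) ⊔ maximalIdeal L * maximalIdeal L := by
          refine (IsLocalization.AtPrime.map_eq_maximalIdeal p L).ge.trans ?_
          exact Ideal.map_le_iff_le_comap.2 hpk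
        have hle' : maximalIdeal L ≤ (Ideal.ofList ts).map (algebraMap T L) :=
          Submodule.le_of_le_smul_of_le_jacobson_bot (I := maximalIdeal L)
            (IsNoetherian.noetherian _) (maximalIdeal_le_jacobson _) hle
        have e : maximalIdeal L = Ideal.ofList (ts.map (algebraMap T L)) := by
          rw [← Ideal.map_ofList]
          exact le_antisymm hle' (hps₁.ge.trans' le_sup_left)
        have := height_le_length (maximalIdeal L) (maximalIdeal.isMaximal L).ne_top _ e
        have h2 := IsLocalRing.maximalIdeal_height_eq_ringKrullDim (R := L)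
        rw [hLdim] at h2
        rw [show (maximalIdeal L).height = (h : ℕ∞) by exact_mod_cast h2, List.length_map, hlen] at this
        have : h ≤ i := by exact_mod_cast this
        omega
      · haveI := hk.isPrime
        have h1 := Ideal.height_mono hpk
        rw [hh, height_eq_of_ass ts hreg htm hk, hlen] at h1
        have : h ≤ i := by exact_mod_cast h1
        omega
    obtain ⟨x, hxp, hx⟩ := Set.not_subset.1 hnp
    simp only [Set.mem_iUnion, SetLike.mem_coe, not_exists] at hx
    have hxA : x ∉ A := hx A (Set.mem_insert _ _)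
    have hxB : x ∉ B := hx B (Set.mem_insert_of_mem _ (Set.mem_insert _ _))
    obtain ⟨j, hj, hj'⟩ := exchange _ s x p hps hxp hxA
    obtain ⟨j₁, hj₁, hj₁'⟩ := exchange _ s₁ (algebraMap T L x) (maximalIdeal L) hps₁
      ((IsLocalization.AtPrime.to_map_mem_maximal_iff L p x).2 hxp) hxB
    have hof : Ideal.ofList (ts ++ [x]) = Ideal.ofList ts ⊔ Ideal.span {x} := by
      rw [Ideal.ofList_append, Ideal.ofList_singleton]
    refine ⟨ts ++ [x], by simp [hlen], ?_, ?_, ⟨s.erase j, ?_, ?_⟩, ⟨s₁.erase j₁, ?_, ?_⟩⟩
    · intro r hr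
      rcases List.mem_append.1 hr with hr | hr
      · exact htp r hr
      · rw [List.mem_singleton.1 hr]; exact hxp
    · rw [isWeaklyRegular_append_iff, isWeaklyRegular_cons_iff]
      refine ⟨hreg, ?_, IsWeaklyRegular.nil T _⟩
      have heq : (Ideal.ofList ts • ⊤ : Submodule T T) = Ideal.ofList ts := by rw [smul_eq_mul, Ideal.mul_top]
      refine ((Submodule.quotEquivOfEq _ _ heq).isSMulRegular_congr x).2 ?_
      rw [isSMulRegular_iff_right_eq_zero_of_smul]
      intro m hm0
      by_contra hne
      obtain ⟨P, hP, hle⟩ := exists_le_isAssociatedPrime_of_isNoetherianRing T m hne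
      exact hx P (Set.mem_insert_of_mem _ (Set.mem_insert_of_mem _ hP))
        (hle (Submodule.mem_colon_singleton.2 (by rw [Submodule.mem_bot]; exact hm0)))
    · rw [Finset.card_erase_of_mem hj]
      have := Finset.card_pos.2 ⟨j, hj⟩
      omega
    · rw [hof]; exact hj'
    · rw [Finset.card_erase_of_mem hj₁]
      have := Finset.card_pos.2 ⟨j₁, hj₁⟩
      omega
    · rw [hof, Ideal.map_sup, show (Ideal.span {x}).map (algebraMap T L) = Ideal.span {algebraMap T L x} from by
        rw [Ideal.map_span, Set.image_singleton]]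
      exact hj₁'

theorem main (hgen : (Submodule.spanFinrank p : ℕ∞) ≤ p.height + 1) :
    ∃ ts : List T, Ideal.ofList ts = p ∧ W4c5grrsingularflat.IsDSeq ts := by
  classical
  obtain ⟨h, hh⟩ := ENat.ne_top_iff_exists.1 (Ideal.height_ne_top (I := p) (Ideal.IsPrime.ne_top inferInstance))
  let L := Localization.AtPrime p
  obtain ⟨ts, hlen, htp, hreg, ⟨s, hs, hps⟩, ⟨s₁, hs₁, hps₁⟩⟩ := exists_seq p h hh.symm h le_rfl
  have hs₁' : s₁ = ∅ := Finset.card_eq_zero.1 (by omega)
  rw [hs₁', Finset.coe_empty, Ideal.span_empty, sup_bot_eq] at hps₁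
  have htm : ∀ r ∈ ts, r ∈ maximalIdeal T := fun r hr => le_maximalIdeal (Ideal.IsPrime.ne_top inferInstance) (htp r hr)
  let l := ts ++ s.toList
  have hl : Ideal.ofList l = p := by
    rw [Ideal.ofList_append, hps]
    congr 1
    simp only [Ideal.ofList, Finset.mem_toList]
    rfl
  have hn : Submodule.spanFinrank p ≤ h + 1 := by rw [← hh] at hgen; exact_mod_cast hgen
  have hllen : l.length = h + s.card := by simp [l, hlen]
  refine ⟨l, hl, fun i hi => ?_, fun i k hk hik => ?_⟩
  · have hmem : p ≤ Ideal.span (Set.range fun j : {j : Fin l.length // j ≠ i} => l[(j : Fin l.length)]) := by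
      refine hl.ge.trans ?_
      rw [Ideal.ofList, Ideal.span_le]
      intro r hr
      obtain ⟨k, hk, rfl⟩ := List.getElem_of_mem hr
      by_cases hki : (⟨k, hk⟩ : Fin l.length) = i
      · subst hki; exact hi
      · exact Ideal.subset_span ⟨⟨⟨k, hk⟩, hki⟩, rfl⟩
    have heq : p = Ideal.span (Set.range fun j : {j : Fin l.length // j ≠ i} => l[(j : Fin l.length)]) :=
      le_antisymm hmem (Ideal.span_le.2 (by
        rintro _ ⟨j, rfl⟩
        exact hl.le (Ideal.subset_span (List.getElem_mem _))))
    have hle := Submodule.spanFinrank_span_le_ncard_of_finite (R := T)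
      (s := Set.range fun j : {j : Fin l.length // j ≠ i} => l[(j : Fin l.length)]) (Set.finite_range _)
    rw [show Submodule.span T _ = p from heq.symm] at hle
    have h2 : (Set.range fun j : {j : Fin l.length // j ≠ i} => l[(j : Fin l.length)]).ncard ≤ l.length - 1 := by
      rw [← Set.image_univ]
      refine (Set.ncard_image_le Set.finite_univ).trans ?_
      rw [Set.ncard_univ, Nat.card_eq_fintype_card, Fintype.card_subtype_compl, Fintype.card_subtype_eq,
        Fintype.card_fin]
    have := i.2
    omega
  · refine le_antisymm (fun x hx => ?_) (fun x hx => ?_)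
    swap
    · rw [Submodule.mem_colon_singleton, smul_eq_mul] at hx ⊢
      rw [← mul_assoc]
      exact Ideal.mul_mem_right _ _ hx
    rw [Submodule.mem_colon_singleton, smul_eq_mul] at hx ⊢
    by_cases hih : i < h
    · have e1 : l[i]'(Nat.lt_of_le_of_lt hik hk) = ts[i]'(hlen ▸ hih) := List.getElem_append_left _
      have e2 : l.take i = ts.take i := List.take_append_of_le_length (by omega)
      have hr := hreg.regular_mod_prev i (hlen ▸ hih)
      rw [e2] at hx ⊢
      have := hr (a₁ := Submodule.Quotient.mk (x * l[k])) (a₂ := 0) (by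
        simp only [smul_zero]
        rw [← Submodule.Quotient.mk_smul, Submodule.Quotient.mk_eq_zero, smul_eq_mul, smul_eq_mul,
          Ideal.mul_top, ← e1]
        rw [show l[i]'(Nat.lt_of_le_of_lt hik hk) * (x * l[k]) = x * (l[k] * l[i]'(Nat.lt_of_le_of_lt hik hk)) by ring]
        exact hx)
      rw [Submodule.Quotient.mk_eq_zero, smul_eq_mul, Ideal.mul_top] at this
      exact this
    · obtain rfl : i = h := by omega
      obtain rfl : k = i := by omega
      have e2 : l.take k = ts := by rw [← hlen]; exact List.take_left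
      rw [e2] at hx ⊢
      set y := l[k]
      have hy : p ≤ Ideal.ofList ts ⊔ Ideal.span {y} := by
        refine hl.ge.trans ?_
        rw [Ideal.ofList, Ideal.span_le]
        intro r hr
        obtain ⟨j, hj, rfl⟩ := List.getElem_of_mem hr
        by_cases hjk : j < k
        · exact Submodule.mem_sup_left (Ideal.subset_span (by
            show l[j] ∈ {r | r ∈ ts}
            rw [List.getElem_append_left (hlen.symm ▸ hjk)]
            exact List.getElem_mem _))
        · obtain rfl : j = k := by omega
          exact Submodule.mem_sup_right (Ideal.mem_span_singleton_self _)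
      by_contra hne
      have hne' : (Ideal.Quotient.mk (Ideal.ofList ts) (x * y)) ≠ 0 := fun e =>
        hne (Ideal.Quotient.eq_zero_iff_mem.1 e)
      obtain ⟨P, hP, hle⟩ := exists_le_isAssociatedPrime_of_isNoetherianRing T
        (Ideal.Quotient.mk (Ideal.ofList ts) (x * y)) hne'
      haveI := hP.isPrime
      have hmemP : ∀ c : T, c * (x * y) ∈ Ideal.ofList ts → c ∈ P := fun c hc =>
        hle (Submodule.mem_colon_singleton.2 (by
          rw [Submodule.mem_bot]
          show Ideal.Quotient.mk (Ideal.ofList ts) (c * (x * y)) = 0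
          exact Ideal.Quotient.eq_zero_iff_mem.2 hc))
      have hyP : y ∈ P := hmemP y (by rw [show y * (x * y) = x * (y * y) by ring]; exact hx)
      have hpP : p ≤ P := hy.trans (sup_le (fun c hc => hmemP c (Ideal.mul_mem_right _ _ hc))
        ((Ideal.span_singleton_le_iff_mem P).2 hyP))
      have hPh := height_eq_of_ass ts hreg htm hP
      have hPp : p = P := by
        by_contra hne2
        have := Ideal.height_strict_mono_of_isPrime_of_isPrime (lt_of_le_of_ne hpP hne2)
        rw [hPh, hlen, hh] at this
        exact lt_irrefl _ this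
      have hyJ : algebraMap T L y ∈ (Ideal.ofList ts).map (algebraMap T L) := by
        rw [← hps₁]
        exact (IsLocalization.AtPrime.to_map_mem_maximal_iff L p y).2 (hPp ▸ hyP)
      obtain ⟨c, hc, hc'⟩ := (IsLocalization.algebraMap_mem_map_algebraMap_iff p.primeCompl L _ _).1 hyJ
      exact hc (hPp ▸ hmemP c (by rw [show c * (x * y) = x * (c * y) by ring]; exact Ideal.mul_mem_left _ _ hc'))

end Groth.Agent.H9DSeq
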